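import Groth.Agent.DualTw.Local
import Groth.Agent.S13478
import Groth.Agent.SemiAbHom.Sections

/-!
The first Ext sheaf out of a twisted constant free group of finite rank vanishes.
-/

noncomputable section

set_option autoImplicit false
set_option backward.isDefEq.respectTransparency false
set_option backward.isDefEq.respectTransparency.types false
set_option linter.style.haveILetI false
set_option linter.unusedSectionVars false
set_option maxHeartbeats 1000000

universe u

open CategoryTheory CategoryTheory.Limits MonoidalCategory CartesianMonoidalCategory MonObj AlgebraicGeometry Opposite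
open Groth.Agent.DualTw

namespace Groth.Agent.LatticeExt

variable {S : Scheme.{u}}

local notation "KK" => Scheme.fppfPrecoverage

/-- A sieve containing an open covering is covering on the slice fppf site. -/
theorem mem_of_opens {V : Over S} {Y : Over V} (R : Sieve Y) {I : Type} (U : I → Y.left.left.Opens)
    (hU : ∀ p, ∃ i, p ∈ U i)
    (h : ∀ i, R (Over.homMk (piece (U i)) : Over.mk (piece (U i) ≫ Y.hom) ⟶ Y)) :
    R ∈ ((QuotSh.J KK S).over V) Y := by
  rw [GrothendieckTopology.mem_over_iff]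
  change _ ∈ (Scheme.fppfTopology.over S) Y.left
  rw [GrothendieckTopology.mem_over_iff]
  refine GrothendieckTopology.superset_covering _ ?_ (Precoverage.generate_mem_toGrothendieck (C := Scheme.{u})
    (R := Presieve.ofArrows (fun i => (U i : Scheme.{u})) (fun i => (U i).ι)) ?_)
  · rw [Sieve.generate_le_iff]
    rintro _ _ ⟨i⟩
    exact (Sieve.overEquiv_iff _ (U i).ι).2 ((Sieve.overEquiv_iff _ (piece (U i))).2 (h i))
  · refine ⟨?_, ?_⟩
    · rw [Presieve.mem_comap_jointlySurjectivePrecoverage_iff]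
      intro p
      obtain ⟨i, hi⟩ := hU p
      exact ⟨_, _, ⟨i⟩, ⟨p, hi⟩, rfl⟩
    · rintro _ _ ⟨i⟩
      exact ⟨inferInstanceAs (Flat (U i).ι), inferInstanceAs (LocallyOfFinitePresentation (U i).ι)⟩

section Local

variable {X : Scheme.{u}} {f : X ⟶ S} {M : Type} [CommGroup M] (G : Over S) [GrpObj G] [IsCommMonObj G]
  (e : Red.bc f G ≅ TwC.const X M) (he : TwC.IsConstGrp M (Red.bc f G) e)
  {V : Over S} (x₀ : V.left ⟶ X) (h₀ : x₀ ≫ f = V.hom)

include h₀ in
theorem str_w (Y : Over V) : (Y.hom.left ≫ x₀) ≫ f = Y.left.hom := by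
  rw [Category.assoc, h₀, Over.w Y.hom]

/-- The constant presheaf of the index group. -/
abbrev idxPre (V : Over S) (M : Type) [CommGroup M] : (Over V)ᵒᵖ ⥤ AddCommGrpCat.{u + 1} :=
  (Functor.const _).obj (AddCommGrpCat.of (ULift.{u + 1} (Additive M)))

include he h₀ in
theorem exists_idxMap : ∃ φ : idxPre V M ⟶ ((CGrpSh.pts KK G).over V).obj,
    ∀ (Y : (Over V)ᵒᵖ) (m : ULift.{u + 1} (Additive M)), (φ.app Y m : ULift.{u + 1} (Additive (Y.unop.left ⟶ G))) =
      ULift.up (Additive.ofMul (sT e (Y.unop.hom.left ≫ x₀) (str_w x₀ h₀ Y.unop) m.down.toMul)) := by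
  refine ⟨{
    app := fun Y => @AddCommGrpCat.ofHom (ULift.{u + 1} (Additive M))
      (ULift.{u + 1} (Additive (Y.unop.left ⟶ G))) _ _
      (AddMonoidHom.mk' (fun m => ULift.up (Additive.ofMul
        (sT e (Y.unop.hom.left ≫ x₀) (str_w x₀ h₀ Y.unop) m.down.toMul))) fun m n =>
          ULift.ext _ _ (congrArg Additive.ofMul (sT_mul e he _ _ _ _)))
    naturality := fun Y Y' k => AddCommGrpCat.ext fun m => ULift.ext _ _ (congrArg Additive.ofMul ?_) },
    fun Y m => rfl⟩
  refine (sT_comp e k.unop.left (Y.unop.hom.left ≫ x₀) (str_w x₀ h₀ Y.unop) _ (str_w x₀ h₀ Y'.unop) ?_ _).symm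
  rw [← Category.assoc, ← Over.comp_left, Over.w k.unop]

include he h₀ in
theorem exists_idxMap_W : ∃ φ : idxPre V M ⟶ ((CGrpSh.pts KK G).over V).obj,
    ((QuotSh.J KK S).over V).W φ ∧ ∀ (Y : (Over V)ᵒᵖ) (m : ULift.{u + 1} (Additive M)),
      (φ.app Y m : ULift.{u + 1} (Additive (Y.unop.left ⟶ G))) =
        ULift.up (Additive.ofMul (sT e (Y.unop.hom.left ≫ x₀) (str_w x₀ h₀ Y.unop) m.down.toMul)) := by
  obtain ⟨φ, hφ⟩ := exists_idxMap G e he x₀ h₀
  haveI : Presheaf.IsLocallyInjective ((QuotSh.J KK S).over V) φ := ⟨fun {Y} m n hmn => by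
    by_cases hmn' : m = n
    · subst hmn'
      convert ((QuotSh.J KK S).over V).top_mem Y.unop
      exact Sieve.ext fun Z q => ⟨fun _ => trivial, fun _ => rfl⟩
    · have hs : sT e (Y.unop.hom.left ≫ x₀) (str_w x₀ h₀ Y.unop) m.down.toMul =
          sT e (Y.unop.hom.left ≫ x₀) (str_w x₀ h₀ Y.unop) n.down.toMul :=
        congrArg (fun z => z.down.toMul) ((hφ Y m).symm.trans (hmn.trans (hφ Y n)))
      have hempty : ∀ p : Y.unop.left.left, False := fun p => hmn' (ULift.ext _ _
        (Additive.toMul.injective (opn_unique e _ (str_w x₀ h₀ Y.unop)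
          (sT e (Y.unop.hom.left ≫ x₀) (str_w x₀ h₀ Y.unop) m.down.toMul) (p := p)
          (by rw [opn_sT]; trivial) (by rw [hs, opn_sT]; trivial))))
      exact mem_of_opens _ (fun i : PEmpty.{1} => i.elim) (fun p => (hempty p).elim) (fun i => i.elim)⟩
  haveI : Presheaf.IsLocallySurjective ((QuotSh.J KK S).over V) φ := ⟨fun {Y} s => by
    refine mem_of_opens _ (opn e (Y.hom.left ≫ x₀) (str_w x₀ h₀ Y) (ULift.down s : Additive (Y.left ⟶ G)).toMul)
      (exists_mem_opn e _ _ _) fun m => ⟨ULift.up (Additive.ofMul m), ?_⟩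
    refine (hφ _ _).trans (ULift.ext _ _ (congrArg Additive.ofMul ?_))
    let P := piece (opn e (Y.hom.left ≫ x₀) (str_w x₀ h₀ Y) (ULift.down s : Additive (Y.left ⟶ G)).toMul m)
    refine (eq_sT_of_range e (Y.hom.left ≫ x₀) (str_w x₀ h₀ Y) (ULift.down s : Additive (Y.left ⟶ G)).toMul
      (m := m) P ?_ ((P ≫ Y.hom).left ≫ x₀) (str_w x₀ h₀ (Over.mk (P ≫ Y.hom)))
      (by rw [Over.comp_left, Category.assoc])).symm
    rintro _ ⟨p, rfl⟩
    exact p.2⟩
  exact ⟨φ, ((QuotSh.J KK S).over V).W_of_isLocallyBijective φ, hφ⟩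

end Local

theorem finsum_basis {r : ℕ} (n : Fin r → ℤ) : n = ∑ i, n i • (Pi.single i (1 : ℤ) : Fin r → ℤ) := by
  funext j
  simp [Finset.sum_apply, Pi.single_apply]

theorem exists_lift_hom {X : Scheme.{u}} {f : X ⟶ S} {r : ℕ} (G : Over S) [GrpObj G] [IsCommMonObj G]
    (e : Red.bc f G ≅ TwC.const X (Multiplicative (Fin r → ℤ)))
    (he : TwC.IsConstGrp (Multiplicative (Fin r → ℤ)) (Red.bc f G) e)
    {F F' : Sheaf (QuotSh.J KK S) AddCommGrpCat.{u + 1}} (g : F ⟶ F') [Epi g]
    {V : Over S} (x₀ : V.left ⟶ X) (h₀ : x₀ ≫ f = V.hom)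
    (d : (CGrpSh.pts KK G).over V ⟶ F'.over V) :
    Presheaf.imageSieve (HomSh.homShMap (QuotSh.J KK S) (𝟙 (CGrpSh.pts KK G)) g).hom (U := V) d ∈
      QuotSh.J KK S V := by
  classical
  haveI : Sheaf.IsLocallySurjective g := (Sheaf.isLocallySurjective_iff_epi' AddCommGrpCat.{u + 1} g).2 inferInstance
  obtain ⟨φ, -, hφ⟩ := exists_idxMap_W G e he x₀ h₀
  let bas : Fin r → ULift.{u + 1} (Additive (Multiplicative (Fin r → ℤ))) :=
    fun i => ULift.up (Additive.ofMul (Multiplicative.ofAdd (Pi.single i 1)))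
  let z : Fin r → ToType (F'.obj.obj (op V)) := fun i =>
    BiextSplit.hv d (𝟙 V) ((φ.app (op (Over.mk (𝟙 V)))) (bas i))
  have hall : ∀ t : Finset (Fin r), ∃ R ∈ QuotSh.J KK S V,
      ∀ i ∈ t, R ≤ Presheaf.imageSieve g.hom (z i) := by
    intro t
    induction t using Finset.induction with
    | empty => exact ⟨⊤, GrothendieckTopology.top_mem _ _, fun i hi => absurd hi (Finset.notMem_empty i)⟩
    | @insert a t ha ih =>
      obtain ⟨R, hR, hRt⟩ := ih
      refine ⟨R ⊓ Presheaf.imageSieve g.hom (z a),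
        GrothendieckTopology.intersection_covering _ hR (Presheaf.imageSieve_mem _ g.hom (z a)), fun i hi => ?_⟩
      rcases Finset.mem_insert.1 hi with rfl | hi
      · exact inf_le_right
      · exact inf_le_left.trans (hRt i hi)
  obtain ⟨R, hR, hRz⟩ := hall Finset.univ
  refine GrothendieckTopology.superset_covering _ (fun W k hk => ?_) hR
  choose y hy using fun i => hRz i (Finset.mem_univ i) k hk
  -- over `W` the group is again constant
  have hk₀ : (k.left ≫ x₀) ≫ f = W.hom := by rw [Category.assoc, h₀, Over.w k]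
  let J' := (QuotSh.J KK S).over W
  let ν : idxPre W (Multiplicative (Fin r → ℤ)) ⟶ (F.over W).obj :=
    { app := fun Y => @AddCommGrpCat.ofHom (ULift.{u + 1} (Additive (Multiplicative (Fin r → ℤ))))
            (F.obj.obj (op Y.unop.left)) _ _
            (AddMonoidHom.mk' (fun n => ∑ i, (Multiplicative.toAdd n.down.toMul i) • F.obj.map Y.unop.hom.op (y i))
              (fun n n' => by
                rw [← Finset.sum_add_distrib]
                exact Finset.sum_congr rfl fun i _ => add_smul _ _ _))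
      naturality := fun Y Y' q => AddCommGrpCat.ext fun n => by
        change (∑ i, (Multiplicative.toAdd n.down.toMul i) • F.obj.map Y'.unop.hom.op (y i)) =
          F.obj.map q.unop.left.op (∑ i, (Multiplicative.toAdd n.down.toMul i) • F.obj.map Y.unop.hom.op (y i))
        rw [map_sum]
        refine Finset.sum_congr rfl fun i _ => ?_
        rw [map_zsmul, ← CategoryTheory.comp_apply, ← Functor.map_comp, ← op_comp, Over.w q.unop] }
  obtain ⟨φ', hW, hφ'⟩ := exists_idxMap_W G e he (k.left ≫ x₀) hk₀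
  have hcomp : ∀ (Y : Over W) (n : ULift.{u + 1} (Additive (Multiplicative (Fin r → ℤ)))),
      (φ'.app (op Y) n : ULift.{u + 1} (Additive (Y.left ⟶ G))) = φ.app (op (Over.mk (Y.hom ≫ k))) n := by
    intro Y n
    refine ((hφ' (op Y) n).trans ?_).trans (hφ (op (Over.mk (Y.hom ≫ k))) n).symm
    refine ULift.ext _ _ (congrArg Additive.ofMul (Over.OverMorphism.ext ?_))
    show (Y.hom.left ≫ k.left ≫ x₀) ≫ _ = ((Y.hom ≫ k).left ≫ x₀) ≫ _
    rw [Over.comp_left, Category.assoc Y.hom.left k.left x₀]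
  obtain ⟨ψ, hψ⟩ := (hW _ (F.over W).property).2 ν
  refine ⟨ObjectProperty.homMk ψ, BiextSplit.hom_ext_hv fun U a q => ?_⟩
  show g.hom.app (op U) (ψ.app (op (Over.mk a)) q) = BiextSplit.hv d (a ≫ k) q
  let d' : ((CGrpSh.pts KK G).over W).obj ⟶ (F'.over W).obj :=
    (((QuotSh.J KK S).overMapPullback AddCommGrpCat.{u + 1} k).map d).hom
  have hinj := (hW _ (F'.over W).property).1
  have key : ψ ≫ (((QuotSh.J KK S).overPullback AddCommGrpCat.{u + 1} W).map g).hom = d' := by
    refine hinj ?_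
    show φ' ≫ ψ ≫ _ = φ' ≫ d'
    rw [reassoc_of% hψ]
    refine NatTrans.ext (funext fun Y => AddCommGrpCat.ext fun n => ?_)
    have hdec : n = ∑ i, (Multiplicative.toAdd n.down.toMul i) • bas i := by
      have hA : n.down.toMul.toAdd = ∑ i, (Multiplicative.toAdd n.down.toMul i) • (Pi.single i 1 : Fin r → ℤ) :=
        finsum_basis _
      let Θ : (Fin r → ℤ) →+ ULift.{u + 1} (Additive (Multiplicative (Fin r → ℤ))) :=
        AddMonoidHom.mk' (fun m => ULift.up (Additive.ofMul (Multiplicative.ofAdd m))) (fun _ _ => rfl)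
      have h := congrArg Θ hA
      simp only [map_sum, map_zsmul] at h
      exact h
    show g.hom.app (op Y.unop.left) (ν.app Y n) =
      BiextSplit.hv d (Y.unop.hom ≫ k) (φ'.app (op Y.unop) n)
    rw [hcomp]
    let l : Over.mk (Y.unop.hom ≫ k) ⟶ Over.mk (𝟙 V) := Over.homMk (Y.unop.hom ≫ k) (Category.comp_id _)
    have hφnat : ∀ n', φ.app (op (Over.mk (Y.unop.hom ≫ k))) n' =
        (CGrpSh.pts KK G).obj.map (Y.unop.hom ≫ k).op (φ.app (op (Over.mk (𝟙 V))) n') := fun n' =>
      ConcreteCategory.congr_hom (φ.naturality l.op) n'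
    rw [hφnat]
    have hd : ∀ q, F'.obj.map (Y.unop.hom ≫ k).op (BiextSplit.hv d (𝟙 V) q) =
        BiextSplit.hv d (Y.unop.hom ≫ k) ((CGrpSh.pts KK G).obj.map (Y.unop.hom ≫ k).op q) := fun q => by
      rw [BiextSplit.hv_nat, Category.comp_id]
    rw [← hd]
    conv_rhs => rw [hdec]
    change g.hom.app _ (∑ i, (Multiplicative.toAdd n.down.toMul i) • F.obj.map Y.unop.hom.op (y i)) = _
    simp only [map_sum, map_zsmul]
    refine Finset.sum_congr rfl fun i _ => congrArg _ ?_
    refine (ConcreteCategory.congr_hom (g.hom.naturality Y.unop.hom.op) (y i)).trans ?_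
    show F'.obj.map Y.unop.hom.op (g.hom.app (op W) (y i)) = _
    rw [hy i, op_comp, Functor.map_comp, CategoryTheory.comp_apply]
  exact ConcreteCategory.congr_hom (NatTrans.congr_app key (op (Over.mk a))) q

theorem mem_of_cover {V : Over S} (R : Sieve V) {I : Type u} (W : I → Over S) (k : ∀ i, W i ⟶ V)
    [∀ i, Flat (k i).left] [∀ i, LocallyOfFinitePresentation (k i).left] (hk : ∀ p, ∃ i w, (k i).left w = p)
    (h : ∀ i, R (k i)) : R ∈ QuotSh.J KK S V := by
  change _ ∈ (Scheme.fppfTopology.over S) V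
  rw [GrothendieckTopology.mem_over_iff]
  refine GrothendieckTopology.superset_covering _ ?_ (Precoverage.generate_mem_toGrothendieck (C := Scheme.{u})
    (R := Presieve.ofArrows (fun i => (W i).left) (fun i => (k i).left)) ?_)
  · rw [Sieve.generate_le_iff]
    rintro _ _ ⟨i⟩
    refine (Sieve.overEquiv_iff _ (k i).left).2 ?_
    let a : Over.mk ((k i).left ≫ V.hom) ⟶ W i := Over.homMk (𝟙 _) (by
      show 𝟙 _ ≫ (W i).hom = (k i).left ≫ V.hom
      rw [Category.id_comp, Over.w])
    have : (Over.homMk (k i).left : Over.mk ((k i).left ≫ V.hom) ⟶ V) = a ≫ k i :=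
      Over.OverMorphism.ext (Category.id_comp _).symm
    rw [this]
    exact R.downward_closed (h i) a
  · refine ⟨?_, ?_⟩
    · rw [Presieve.mem_comap_jointlySurjectivePrecoverage_iff]
      intro p
      obtain ⟨i, w, hw⟩ := hk p
      exact ⟨_, _, ⟨i⟩, w, hw⟩
    · rintro _ _ ⟨i⟩
      exact ⟨inferInstanceAs (Flat (k i).left), inferInstanceAs (LocallyOfFinitePresentation (k i).left)⟩

theorem imageSieve_mem_of_locally (G : Over S) [GrpObj G] [IsCommMonObj G]
    (hX : TwC.Locally S TwC.Topology.etale (fun S' f =>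
      ∃ (r : ℕ) (e : Red.bc f G ≅ TwC.const S' (Multiplicative (Fin r → ℤ))),
        TwC.IsConstGrp (Multiplicative (Fin r → ℤ)) (Red.bc f G) e))
    {F F' : Sheaf (QuotSh.J KK S) AddCommGrpCat.{u + 1}} (g : F ⟶ F') [Epi g]
    {V : Over S} (d : (CGrpSh.pts KK G).over V ⟶ F'.over V) :
    Presheaf.imageSieve (HomSh.homShMap (QuotSh.J KK S) (𝟙 (CGrpSh.pts KK G)) g).hom (U := V) d ∈
      QuotSh.J KK S V := by
  choose S' f hfe hfs r e he using hX
  let W : S → Over S := fun s => Over.mk (pullback.fst V.hom (f s) ≫ V.hom)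
  let k : ∀ s, W s ⟶ V := fun s => Over.homMk (pullback.fst V.hom (f s)) rfl
  have hk : ∀ s, Etale (k s).left := fun s => MorphismProperty.pullback_fst _ _ (hfe s)
  haveI : ∀ s, Flat (k s).left := fun s => by haveI := hk s; infer_instance
  haveI : ∀ s, LocallyOfFinitePresentation (k s).left := fun s => by haveI := hk s; infer_instance
  let R : Sieve V := Sieve.generate (Presieve.ofArrows W k)
  have hR : R ∈ QuotSh.J KK S V := mem_of_cover R W k (fun p => by
    obtain ⟨q, hq⟩ := hfs (V.hom p)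
    obtain ⟨w, hw, -⟩ := Scheme.Pullback.exists_preimage_pullback p q hq.symm
    exact ⟨V.hom p, w, hw⟩) fun s => (Sieve.le_generate (Presieve.ofArrows W k)) _ _ (Presieve.ofArrows.mk s)
  refine GrothendieckTopology.transitive _ hR _ ?_
  rintro Z q ⟨_, a, _, ⟨s⟩, rfl⟩
  rw [Sieve.pullback_comp]
  refine GrothendieckTopology.pullback_stable _ a ?_
  have hp : (pullback.snd V.hom (f s)) ≫ f s = (W s).hom := (pullback.condition).symm
  refine GrothendieckTopology.superset_covering _ ?_
    (exists_lift_hom G (e s) (he s) g (V := W s) (pullback.snd V.hom (f s)) hp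
      ((HomSh.homSh (QuotSh.J KK S) (CGrpSh.pts KK G) F').obj.map (k s).op d))
  intro U b hb
  obtain ⟨t, ht⟩ := hb
  refine ⟨t, ht.trans ?_⟩
  show (HomSh.homSh (QuotSh.J KK S) (CGrpSh.pts KK G) F').obj.map b.op
      ((HomSh.homSh (QuotSh.J KK S) (CGrpSh.pts KK G) F').obj.map (k s).op d) = _
  rw [← CategoryTheory.comp_apply, ← Functor.map_comp, ← op_comp]

theorem isZero_extSh_one (G P : Over S) [GrpObj G] [IsCommMonObj G]
    (hX : TwC.Locally S TwC.Topology.etale (fun S' f =>
      ∃ (r : ℕ) (e : Red.bc f G ≅ TwC.const S' (Multiplicative (Fin r → ℤ))),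
        TwC.IsConstGrp (Multiplicative (Fin r → ℤ)) (Red.bc f G) e))
    [GrpObj P] [IsCommMonObj P] :
    IsZero ((HomSh.extSh (QuotSh.J KK S) (CGrpSh.pts KK G) 1).obj (CGrpSh.pts KK P)) := by
  rw [HomSh.extSh_def]
  exact S13478.isZero_R1 (QuotSh.J KK S) (CGrpSh.pts KK G) (CGrpSh.pts KK P)
    fun T c => imageSieve_mem_of_locally G hX _ c

end Groth.Agent.LatticeExt
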